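import Groth.Agent.Disc12.Koszul.Colon

/-! Regular sequences have exact Koszul complexes. -/

universe u

set_option autoImplicit false
set_option backward.isDefEq.respectTransparency false

open ExteriorAlgebra

namespace Groth.Agent.Disc12.Koszul

variable {R : Type u} [CommRing R] {n : ℕ}

/-- Exact up to powers of `c`. -/
def ExactUpTo (c : R) (f : Fin n → R) : Prop :=
  ∀ p x, d f p x = 0 → ∃ (k : ℕ) (y : K R n (p + 1 + 1)), d f (p + 1) y = c ^ k • x

theorem ExactUpTo.of_isEmpty (c : R) (f : Fin 0 → R) : ExactUpTo c f := fun p x _ => by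
  haveI := subsingleton_K (R := R) (n := 0) (p := p + 1) (Nat.succ_pos p)
  exact ⟨0, 0, Subsingleton.elim _ _⟩

theorem ExactUpTo.cons {c : R} {f : Fin n → R} (h : ExactUpTo c f) {f₀ : R}
    (h₀ : ∀ r, f₀ * r ∈ Ideal.span (Set.range f) → ∃ k : ℕ, c ^ k * r ∈ Ideal.span (Set.range f)) :
    ExactUpTo c (Fin.cons f₀ f) := by
  intro p x hx
  obtain ⟨⟨a, b⟩, ⟨ha, hb⟩, hab⟩ := (range_step p).ge x.2
  have hD : D (functional (Fin.cons f₀ f)) (step (a, b)) = 0 := by
    rw [hab]; exact congrArg Subtype.val hx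
  rw [D_step, LinearMap.map_eq_zero_iff _ step_injective, Prod.mk_eq_zero, neg_eq_zero] at hD
  obtain ⟨hDa, hDb⟩ := hD
  obtain ⟨k, u, hu⟩ : ∃ (k : ℕ) (u : K R n (p + 1)), D (functional f) u.1 = c ^ k • a := by
    rcases p with _ | q
    · obtain ⟨r, hr⟩ := e0_surjective (⟨a, ha⟩ : K R n 0)
      have hmem : (e0 (f₀ * r) : K R n 0) ∈ LinearMap.range (d f 0) := by
        refine ⟨-⟨b, hb⟩, Subtype.ext ?_⟩
        rw [coe_d, Submodule.coe_neg, map_neg, ← smul_eq_mul, map_smul, Submodule.coe_smul, hr]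
        exact neg_eq_of_add_eq_zero_left hDb
      rw [range_d_zero] at hmem
      obtain ⟨s, hs, hsr⟩ := hmem
      have hinj : s = f₀ * r :=
        (ExteriorAlgebra.algebraMap_leftInverse (Fin n → R)).injective (congrArg Subtype.val hsr)
      obtain ⟨k, hk⟩ := h₀ r (hinj ▸ hs)
      obtain ⟨u, hu⟩ := (range_d_zero f).ge ⟨_, hk, rfl⟩
      refine ⟨k, u, ?_⟩
      rw [← coe_d, hu, ← smul_eq_mul, map_smul, Submodule.coe_smul, hr]
    · obtain ⟨k, u, hu⟩ := h q ⟨a, ha⟩ (Subtype.ext hDa)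
      exact ⟨k, u, congrArg Subtype.val hu⟩
  have hbu : c ^ k • b + f₀ • u.1 ∈ ⋀[R]^(p + 1) (Fin n → R) :=
    Submodule.add_mem _ (Submodule.smul_mem _ _ hb) (Submodule.smul_mem _ _ u.2)
  obtain ⟨l, w, hw⟩ := h p ⟨_, hbu⟩ (Subtype.ext (by
    show D (functional f) (c ^ k • b + f₀ • u.1) = 0
    rw [map_add, map_smul, map_smul, hu, smul_comm f₀, ← smul_add, add_comm, hDb, smul_zero]))
  have hw' : D (functional f) w.1 = c ^ l • (c ^ k • b + f₀ • u.1) := congrArg Subtype.val hw
  refine ⟨l + k, ⟨step (-(c ^ l • u.1), w.1), ?_⟩, Subtype.ext ?_⟩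
  · exact (range_step (p + 1)).le ⟨(-(c ^ l • u.1), w.1),
      ⟨Submodule.neg_mem _ (Submodule.smul_mem _ _ u.2), w.2⟩, rfl⟩
  · rw [coe_d, D_step, Submodule.coe_smul, ← hab, ← map_smul]
    refine congrArg step (Prod.ext ?_ ?_)
    · show -D (functional f) (-(c ^ l • u.1)) = c ^ (l + k) • a
      rw [map_neg, neg_neg, map_smul, hu, smul_smul, pow_add]
    · show f₀ • -(c ^ l • u.1) + D (functional f) w.1 = c ^ (l + k) • b
      rw [hw', smul_add, smul_smul (c ^ l), ← pow_add, smul_neg, smul_comm f₀ (c ^ l)]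
      abel

theorem ExactUpTo.comp_perm {c : R} {f : Fin n → R} (σ : Equiv.Perm (Fin n)) (h : ExactUpTo c (f ∘ σ)) :
    ExactUpTo c f := by
  have hc : ∀ (g : Fin n → R) (τ : Equiv.Perm (Fin n)),
      functional (g ∘ τ) ∘ₗ LinearMap.funLeft R R τ = functional g := fun g τ => LinearMap.ext fun v => by
    simp only [LinearMap.comp_apply, functional_apply, LinearMap.funLeft_apply, Function.comp_apply]
    exact Equiv.sum_comp τ fun i => v i * g i
  have hc' : functional f ∘ₗ LinearMap.funLeft R R σ.symm = functional (f ∘ σ) := by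
    have := hc (f ∘ σ) σ.symm
    rwa [Function.comp_assoc, σ.self_comp_symm, Function.comp_id] at this
  have hid : ∀ (p : ℕ) (z : K R n p),
      kmap (LinearMap.funLeft R R σ.symm) p (kmap (LinearMap.funLeft R R σ) p z) = z := fun p z => Subtype.ext (by
    show map (LinearMap.funLeft R R σ.symm) (map (LinearMap.funLeft R R σ) z.1) = z.1
    rw [← AlgHom.comp_apply, map_comp_map, ← LinearMap.funLeft_comp, σ.self_comp_symm, show LinearMap.funLeft R R (id : Fin n → Fin n) = LinearMap.id from rfl, map_id]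
    rfl)
  intro p x hx
  have hx' : d (f ∘ σ) p (kmap (LinearMap.funLeft R R σ) (p + 1) x) = 0 := by
    rw [← LinearMap.comp_apply, d_kmap _ _ _ (hc f σ), LinearMap.comp_apply, hx, map_zero]
  obtain ⟨k, y, hy⟩ := h p _ hx'
  refine ⟨k, kmap (LinearMap.funLeft R R σ.symm) (p + 1 + 1) y, ?_⟩
  rw [← LinearMap.comp_apply, d_kmap _ _ _ hc', LinearMap.comp_apply, hy, map_smul, hid]

/-- A sequence that is regular up to powers of `c` has a Koszul complex exact up to powers of `c`. -/
theorem exactUpTo_of_regular (c : R) : ∀ {n : ℕ} (f : Fin n → R),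
    (∀ i (r : R), f i * r ∈ Ideal.span (f '' Set.Iio i) → ∃ k : ℕ, c ^ k * r ∈ Ideal.span (f '' Set.Iio i)) →
      ExactUpTo c f
  | 0, f, _ => ExactUpTo.of_isEmpty c f
  | n + 1, f, h => by
    have himg : ∀ i : Fin n, (fun j : Fin n => f j.castSucc) '' Set.Iio i = f '' Set.Iio i.castSucc := fun i => by
      ext y
      constructor
      · rintro ⟨j, hj, rfl⟩
        exact ⟨j.castSucc, Fin.castSucc_lt_castSucc_iff.2 hj, rfl⟩
      · rintro ⟨j, hj, rfl⟩
        obtain ⟨j, rfl⟩ := Fin.exists_castSucc_eq.2 (ne_of_lt (lt_of_lt_of_le hj (Fin.le_last _)))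
        exact ⟨j, Fin.castSucc_lt_castSucc_iff.1 hj, rfl⟩
    have hlast : Set.range (fun j : Fin n => f j.castSucc) = f '' Set.Iio (Fin.last n) := by
      ext y
      constructor
      · rintro ⟨j, rfl⟩
        exact ⟨j.castSucc, Fin.castSucc_lt_last j, rfl⟩
      · rintro ⟨j, hj, rfl⟩
        obtain ⟨j, rfl⟩ := Fin.exists_castSucc_eq.2 (ne_of_lt hj)
        exact ⟨j, rfl⟩
    have := (exactUpTo_of_regular c (fun j : Fin n => f j.castSucc) fun i r hr => by
      rw [himg] at hr ⊢
      exact h i.castSucc r hr).cons (f₀ := f (Fin.last n)) fun r hr => by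
        rw [hlast] at hr ⊢
        exact h _ r hr
    refine ExactUpTo.comp_perm (finRotate (n + 1)).symm ?_
    convert this using 1
    funext j
    induction j using Fin.cases with
    | zero =>
      rw [Function.comp_apply, Fin.cons_zero, ← finRotate_last, Equiv.symm_apply_apply]
    | succ j =>
      rw [Function.comp_apply, Fin.cons_succ]
      congr 1
      rw [Equiv.symm_apply_eq, finRotate_succ_apply, Fin.coeSucc_eq_succ]

/-- Multiplication by a member of the sequence kills the homology. -/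
theorem smul_mem_range (f : Fin n → R) (i : Fin n) (p : ℕ) (x : K R n (p + 1)) (hx : d f p x = 0) :
    f i • x ∈ LinearMap.range (d f (p + 1)) := by
  refine ⟨⟨ι R (Pi.single i 1) * x.1, ?_⟩, Subtype.ext ?_⟩
  · rw [exteriorPower, pow_succ']
    exact Submodule.mul_mem_mul ⟨_, rfl⟩ x.2
  · rw [coe_d, D_ι_mul, functional_single, show D (functional f) x.1 = 0 from congrArg Subtype.val hx, mul_zero,
      sub_zero]
    rfl

/-- Exactness is local on the zero locus of the sequence. -/
theorem exact_of_local (f : Fin n → R)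
    (h : ∀ m : Ideal R, m.IsMaximal → Ideal.span (Set.range f) ≤ m → ∃ c ∉ m, ExactUpTo c f) (p : ℕ) :
    Function.Exact (d f (p + 1)) (d f p) := by
  refine LinearMap.exact_iff.2 (le_antisymm (fun x hx => ?_) ?_)
  swap
  · rintro _ ⟨y, rfl⟩
    exact LinearMap.congr_fun (d_d f p) y
  let J : Ideal R := (LinearMap.range (d f (p + 1))).comap (LinearMap.toSpanSingleton R _ x)
  suffices hJ : J = ⊤ by
    have h1 : (1 : R) ∈ J := hJ ▸ Submodule.mem_top
    have h2 : (1 : R) • x ∈ LinearMap.range (d f (p + 1)) := h1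
    rwa [one_smul] at h2
  by_contra hne
  obtain ⟨m, hm, hJm⟩ := Ideal.exists_le_maximal J hne
  obtain ⟨c, hc, hex⟩ := h m hm (Ideal.span_le.2 fun y hy => by
    obtain ⟨i, rfl⟩ := hy
    exact hJm (smul_mem_range f i p x hx))
  obtain ⟨k, y, hy⟩ := hex p x hx
  exact hc (hm.isPrime.mem_of_pow_mem k (hJm ⟨y, hy⟩))

end Groth.Agent.Disc12.Koszul
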