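import Groth.Agent.Disc12.Koszul.Ext
import Groth.Prelude.Def_Koszul
import Groth.Prelude.Def_LCI2

/-! Comparison of the cone model of the Koszul complex with the exterior algebra model. -/

universe u

set_option autoImplicit false
set_option backward.isDefEq.respectTransparency false

open CategoryTheory CategoryTheory.Limits CochainComplex ExteriorAlgebra

namespace Groth.Agent.Disc12.Koszul

variable {R : Type u} [CommRing R]

/-- The part of cohomological degree `i`. -/
noncomputable def G (R : Type u) [CommRing R] (n : ℕ) (i : ℤ) :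
    Submodule R (ExteriorAlgebra R (Fin n → R)) :=
  if i ≤ 0 then ⋀[R]^((-i).toNat) (Fin n → R) else ⊥

/-- An identification of a cochain complex with the exterior algebra model. -/
structure Emb {n : ℕ} (f : Fin n → R) (C : CochainComplex (ModuleCat.{u} R) ℤ) where
  ψ : ∀ i, C.X i →ₗ[R] ExteriorAlgebra R (Fin n → R)
  inj : ∀ i, Function.Injective (ψ i)
  range : ∀ i, LinearMap.range (ψ i) = G R n i
  comm : ∀ i x, ψ (i + 1) (C.d i (i + 1) x) = D (functional f) (ψ i x)

variable {n : ℕ}

theorem nonempty_emb_zero (f : Fin 0 → R) :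
    Nonempty (Emb f ((HomologicalComplex.single (ModuleCat.{u} R) (ComplexShape.up ℤ) 0).obj
      (ModuleCat.of R R))) := by
  classical
  let C := (HomologicalComplex.single (ModuleCat.{u} R) (ComplexShape.up ℤ) 0).obj (ModuleCat.of R R)
  let e : C.X 0 ≃ₗ[R] R := (HomologicalComplex.singleObjXSelf (ComplexShape.up ℤ) 0 (ModuleCat.of R R)).toLinearEquiv
  have hι : LinearMap.range (ι R (M := Fin 0 → R)) = ⊥ := by
    rw [LinearMap.range_eq_bot]
    exact Subsingleton.elim _ _
  have hsub : ∀ i : ℤ, i ≠ 0 → Subsingleton (C.X i) := fun i hi =>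
    ModuleCat.subsingleton_of_isZero (HomologicalComplex.isZero_single_obj_X _ _ _ _ hi)
  refine ⟨⟨fun i => if h : i = 0 then (by subst h; exact Algebra.linearMap R _ ∘ₗ e.toLinearMap) else 0, ?_, ?_, ?_⟩⟩
  · intro i
    by_cases h : i = 0
    · subst h
      simp only [dif_pos]
      exact (ExteriorAlgebra.algebraMap_leftInverse (Fin 0 → R)).injective.comp e.injective
    · have := hsub i h
      exact Function.injective_of_subsingleton _
  · intro i
    by_cases h : i = 0
    · subst h
      simp only [dif_pos, G, le_refl, if_true, neg_zero, Int.toNat_zero, exteriorPower, pow_zero]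
      rw [LinearEquiv.range_comp, Submodule.one_eq_range]
    · simp only [dif_neg h, LinearMap.range_zero, G]
      split_ifs with h'
      · rw [exteriorPower, hι]
        exact (zero_pow (by omega)).symm
      · rfl
  · intro i x
    by_cases h : i = 0
    · subst h
      simp [D_algebraMap]
    · simp [dif_neg h]

section step

variable (f₀ : R) (f : Fin n → R)

/-- The inclusion of the last coordinates. -/
noncomputable def incl : (Fin n → R) →ₗ[R] (Fin (n + 1) → R) where
  toFun v := Fin.cons 0 v
  map_add' v w := by ext i; induction i using Fin.cases <;> simp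
  map_smul' r v := by ext i; induction i using Fin.cases <;> simp

/-- The projection onto the last coordinates. -/
noncomputable def proj : (Fin (n + 1) → R) →ₗ[R] (Fin n → R) := LinearMap.funLeft R R Fin.succ

theorem proj_incl : proj (R := R) (n := n) ∘ₗ incl = LinearMap.id := by
  ext v i
  simp [proj, incl]

theorem functional_comp_incl : functional (Fin.cons f₀ f) ∘ₗ incl = functional f := by
  refine LinearMap.ext fun v => ?_
  simp [incl, Fin.sum_univ_succ]

theorem proj0_comp_incl : LinearMap.proj (R := R) (φ := fun _ : Fin (n + 1) => R) 0 ∘ₗ incl = 0 :=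
  LinearMap.ext fun _ => rfl

/-- The first basis vector in the exterior algebra. -/
noncomputable def eps : ExteriorAlgebra R (Fin (n + 1) → R) := ι R (Pi.single 0 1)

theorem eq_add_incl (v : Fin (n + 1) → R) :
    ι R v = v 0 • eps + map incl (ι R (proj v)) := by
  rw [map_apply_ι, eps, ← map_smul, ← map_add]
  congr 1
  funext i
  induction i using Fin.cases <;> simp [proj, incl, LinearMap.funLeft_apply]

/-- The comparison map in the induction step. -/
noncomputable def step : (ExteriorAlgebra R (Fin n → R)) × (ExteriorAlgebra R (Fin n → R)) →ₗ[R]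
    ExteriorAlgebra R (Fin (n + 1) → R) :=
  LinearMap.coprod (LinearMap.mulLeft R eps ∘ₗ (map incl).toLinearMap) (map incl).toLinearMap

theorem step_apply (a b : ExteriorAlgebra R (Fin n → R)) :
    step (a, b) = eps * map incl a + map incl b := rfl

theorem step_injective : Function.Injective (step (R := R) (n := n)) := by
  rw [← LinearMap.ker_eq_bot, LinearMap.ker_eq_bot']
  rintro ⟨a, b⟩ h
  rw [step_apply] at h
  have hretr : ∀ z : ExteriorAlgebra R (Fin n → R), map proj (map incl z) = z := fun z => by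
    rw [← AlgHom.comp_apply, map_comp_map, proj_incl, map_id]
    rfl
  have hb : b = 0 := by
    have hp0 : proj (R := R) (n := n) (Pi.single 0 1) = 0 :=
      funext fun i => by simp [proj, LinearMap.funLeft_apply, Fin.succ_ne_zero]
    have := congrArg (map (proj (R := R) (n := n))) h
    rwa [map_add, map_mul, eps, map_apply_ι, hp0, map_zero, zero_mul, zero_add, hretr,
      map_zero] at this
  subst hb
  rw [map_zero, add_zero] at h
  have := congrArg (D (LinearMap.proj (R := R) (φ := fun _ : Fin (n + 1) => R) 0)) h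
  rw [eps, D_ι_mul, D_map, proj0_comp_incl, show D (0 : (Fin n → R) →ₗ[R] R) a = 0 by simp [D], map_zero,
    mul_zero, sub_zero, map_zero] at this
  simp only [LinearMap.proj_apply, Pi.single_eq_same, one_smul] at this
  have := congrArg (map (proj (R := R) (n := n))) this
  rw [hretr, map_zero] at this
  simp [this]

theorem D_step (a b : ExteriorAlgebra R (Fin n → R)) :
    D (functional (Fin.cons f₀ f)) (step (a, b)) =
      step (-D (functional f) a, f₀ • a + D (functional f) b) := by
  rw [step_apply, step_apply, map_add (D _), eps, D_ι_mul, D_map, D_map, functional_comp_incl,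
    functional_single, Fin.cons_zero, map_neg, mul_neg, map_add, map_smul]
  abel

theorem range_step (p : ℕ) :
    Submodule.map step ((⋀[R]^p (Fin n → R)).prod (⋀[R]^(p + 1) (Fin n → R))) =
      ⋀[R]^(p + 1) (Fin (n + 1) → R) := by
  refine le_antisymm ?_ ?_
  · rintro _ ⟨⟨a, b⟩, ⟨ha, hb⟩, rfl⟩
    rw [step_apply]
    refine Submodule.add_mem _ ?_ (map_mem _ _ hb)
    rw [exteriorPower, pow_succ']
    exact Submodule.mul_mem_mul ⟨_, rfl⟩ (map_mem _ _ ha)
  · induction p with
    | zero =>
      intro x hx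
      rw [exteriorPower, zero_add, pow_one] at hx
      obtain ⟨v, rfl⟩ := hx
      refine ⟨(algebraMap R _ (v 0), ι R (proj v)), ⟨?_, ?_⟩, ?_⟩
      · rw [exteriorPower, pow_zero]; exact Submodule.algebraMap_mem _
      · rw [exteriorPower, zero_add, pow_one]; exact ⟨_, rfl⟩
      · rw [step_apply, AlgHom.commutes, ← Algebra.commutes, ← Algebra.smul_def, eq_add_incl v]
    | succ p ih =>
      intro x hx
      rw [exteriorPower, pow_succ'] at hx
      induction hx using Submodule.mul_induction_on' with
      | mem_mul_mem y hy z hz =>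
        obtain ⟨v, rfl⟩ := hy
        obtain ⟨⟨a, b⟩, ⟨ha, hb⟩, rfl⟩ := ih hz
        refine ⟨(v 0 • b - ι R (proj v) * a, ι R (proj v) * b), ⟨?_, ?_⟩, ?_⟩
        · refine Submodule.sub_mem _ (Submodule.smul_mem _ _ hb) ?_
          rw [exteriorPower, pow_succ']
          exact Submodule.mul_mem_mul ⟨_, rfl⟩ ha
        · rw [exteriorPower, pow_succ' _ (p + 1)]
          exact Submodule.mul_mem_mul ⟨_, rfl⟩ hb
        · rw [step_apply, step_apply, eq_add_incl v, map_sub, map_smul, map_mul, map_mul]
          have hsq : (eps : ExteriorAlgebra R (Fin (n + 1) → R)) * eps = 0 := ι_sq_zero _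
          have hsw : map incl (ι R (proj v)) * eps = -(eps * map incl (ι R (proj v))) := by
            rw [map_apply_ι, eps, eq_neg_iff_add_eq_zero]
            exact ι_add_mul_swap _ _
          rw [mul_add, add_mul, add_mul, smul_mul_assoc, smul_mul_assoc, ← mul_assoc eps eps, hsq, zero_mul,
            smul_zero, ← mul_assoc (map incl (ι R (proj v))) eps, hsw, neg_mul, mul_assoc eps (map incl (ι R (proj v))),
            mul_sub, mul_smul_comm]
          abel
      | add y _ z _ hy hz => exact Submodule.add_mem _ hy hz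

theorem range_step_G (i : ℤ) :
    Submodule.map step ((G R n (i + 1)).prod (G R n i)) = G R (n + 1) i := by
  rcases lt_trichotomy i 0 with h | h | h
  · obtain ⟨p, rfl⟩ : ∃ p : ℕ, i = -((p + 1 : ℕ) : ℤ) := ⟨(-i).toNat - 1, by omega⟩
    simp only [G, if_pos (show -((p + 1 : ℕ) : ℤ) + 1 ≤ 0 by omega), if_pos (show -((p + 1 : ℕ) : ℤ) ≤ 0 by omega)]
    rw [show (-(-((p + 1 : ℕ) : ℤ) + 1)).toNat = p by omega, show (-(-((p + 1 : ℕ) : ℤ))).toNat = p + 1 by omega]
    exact range_step p
  · subst h
    simp only [G, le_refl, if_true, neg_zero, Int.toNat_zero, if_neg (show ¬ ((0 : ℤ) + 1 ≤ 0) by omega),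
      exteriorPower, pow_zero]
    refine le_antisymm ?_ ?_
    · rintro _ ⟨⟨a, b⟩, ⟨ha, hb⟩, rfl⟩
      obtain rfl : a = 0 := ha
      obtain ⟨r, rfl⟩ := Submodule.mem_one.1 hb
      rw [step_apply, map_zero, mul_zero, zero_add, AlgHom.commutes]
      exact Submodule.algebraMap_mem r
    · intro x hx
      obtain ⟨r, rfl⟩ := Submodule.mem_one.1 hx
      refine ⟨(0, algebraMap R _ r), ⟨rfl, Submodule.algebraMap_mem r⟩, ?_⟩
      rw [step_apply, map_zero, mul_zero, zero_add, AlgHom.commutes]
  · simp [G, not_le.2 h, show ¬ (i + 1 ≤ 0) by omega]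

theorem nonempty_emb_succ {C : CochainComplex (ModuleCat.{u} R) ℤ} (e : Emb f C) :
    Nonempty (Emb (Fin.cons f₀ f) (mappingCone (f₀ • 𝟙 C))) := by
  let φ := f₀ • 𝟙 C
  let a : ∀ i, (mappingCone φ).X i →ₗ[R] ExteriorAlgebra R (Fin n → R) := fun i =>
    (e.ψ (i + 1)).comp ((mappingCone.fst φ).1.v i (i + 1) rfl).hom
  let b : ∀ i, (mappingCone φ).X i →ₗ[R] ExteriorAlgebra R (Fin n → R) := fun i =>
    (e.ψ i).comp ((mappingCone.snd φ).v i i (add_zero i)).hom
  refine ⟨⟨fun i => step ∘ₗ (a i).prod (b i), fun i => ?_, fun i => ?_, fun i x => ?_⟩⟩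
  · rw [← LinearMap.ker_eq_bot, LinearMap.ker_eq_bot']
    intro x hx
    have h0 := (LinearMap.map_eq_zero_iff _ step_injective).1 hx
    rw [LinearMap.prod_apply, Prod.mk_eq_zero] at h0
    have hx1 : (mappingCone.fst φ).1.v i (i + 1) rfl x = 0 := (LinearMap.map_eq_zero_iff _ (e.inj _)).1 h0.1
    have hx2 : (mappingCone.snd φ).v i i (add_zero i) x = 0 := (LinearMap.map_eq_zero_iff _ (e.inj _)).1 h0.2
    have hid := ConcreteCategory.congr_hom (mappingCone.id_X φ i (i + 1) rfl) x
    simp [hx1, hx2] at hid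
    exact hid.symm
  · have hprod : LinearMap.range ((a i).prod (b i)) = (G R n (i + 1)).prod (G R n i) := by
      refine le_antisymm ?_ ?_
      · rintro _ ⟨x, rfl⟩
        exact ⟨(e.range (i + 1)).le ⟨_, rfl⟩, (e.range i).le ⟨_, rfl⟩⟩
      · rintro ⟨y, z⟩ ⟨hy, hz⟩
        obtain ⟨y, rfl⟩ := (e.range (i + 1)).ge hy
        obtain ⟨z, rfl⟩ := (e.range i).ge hz
        refine ⟨(mappingCone.inl φ).v (i + 1) i (by omega) y + (mappingCone.inr φ).f i z, ?_⟩
        have h1 : ((mappingCone.fst φ).1.v i (i + 1) rfl).hom ((mappingCone.inl φ).v (i + 1) i (by omega) y) = y :=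
          ConcreteCategory.congr_hom (mappingCone.inl_v_fst_v φ (i + 1) i rfl) y
        have h2 : ((mappingCone.snd φ).v i i (add_zero i)).hom ((mappingCone.inl φ).v (i + 1) i (by omega) y) = 0 :=
          ConcreteCategory.congr_hom (mappingCone.inl_v_snd_v φ (i + 1) i (by omega)) y
        have h3 : ((mappingCone.fst φ).1.v i (i + 1) rfl).hom ((mappingCone.inr φ).f i z) = 0 :=
          ConcreteCategory.congr_hom (mappingCone.inr_f_fst_v φ i (i + 1) rfl) z
        have h4 : ((mappingCone.snd φ).v i i (add_zero i)).hom ((mappingCone.inr φ).f i z) = z :=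
          ConcreteCategory.congr_hom (mappingCone.inr_f_snd_v φ i) z
        show (e.ψ (i + 1) (((mappingCone.fst φ).1.v i (i + 1) rfl).hom _), e.ψ i (((mappingCone.snd φ).v i i
          (add_zero i)).hom _)) = _
        simp only [map_add, h1, h2, h3, h4, map_zero, add_zero, zero_add]
    rw [LinearMap.range_comp, hprod, range_step_G]
  · have h1 := ConcreteCategory.congr_hom (mappingCone.d_fst_v φ i (i + 1) (i + 1 + 1) rfl rfl) x
    have h2 := ConcreteCategory.congr_hom (mappingCone.d_snd_v φ i (i + 1) rfl) x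
    simp only [LinearMap.comp_apply, LinearMap.prod_apply, Pi.prod, a, b]
    rw [D_step]
    refine congrArg step (Prod.ext ?_ ?_)
    · refine (congrArg (e.ψ (i + 1 + 1)) h1).trans ?_
      simp [e.comm]
      rfl
    · refine (congrArg (e.ψ (i + 1)) h2).trans ?_
      simp [φ, e.comm]

end step

theorem nonempty_emb : ∀ {n : ℕ} (f : Fin n → R), Nonempty (Emb f (_root_.Koszul.koszul R (List.ofFn f)))
  | 0, f => by
    rw [List.ofFn_zero]
    exact nonempty_emb_zero f
  | n + 1, f => by
    obtain ⟨e⟩ := nonempty_emb (fun i : Fin n => f i.succ)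
    have := nonempty_emb_succ (f 0) _ e
    rw [show Fin.cons (f 0) (fun i : Fin n => f i.succ) = f from Fin.cons_self_tail f] at this
    rw [List.ofFn_succ]
    exact this

/-- A Koszul regular sequence has an exterior algebra Koszul complex exact in positive degrees. -/
theorem exact_of_isKoszulRegularSeq {f : Fin n → R} (hf : LCI.IsKoszulRegularSeq R (List.ofFn f)) (p : ℕ) :
    Function.Exact (d f (p + 1)) (d f p) := by
  obtain ⟨e⟩ := nonempty_emb f
  refine LinearMap.exact_iff.2 (le_antisymm (fun x hx => ?_) ?_)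
  swap
  · rintro _ ⟨y, rfl⟩
    exact LinearMap.congr_fun (d_d f p) y
  let i : ℤ := -((p + 1 : ℕ) : ℤ)
  have hex := ((HomologicalComplex.exactAt_iff' _ (i - 1) i (i + 1) (by simp) (by simp)).1
    ((HomologicalComplex.exactAt_iff_isZero_homology _ _).2 (hf i (by omega))))
  rw [ShortComplex.moduleCat_exact_iff] at hex
  have hmem : x.1 ∈ G R n i := by
    simp only [G, i, if_pos (show -((p + 1 : ℕ) : ℤ) ≤ 0 by omega)]
    rw [show (-(-((p + 1 : ℕ) : ℤ))).toNat = p + 1 by omega]
    exact x.2
  rw [← e.range] at hmem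
  obtain ⟨z, hz⟩ := hmem
  have hdz : (_root_.Koszul.koszul R (List.ofFn f)).d i (i + 1) z = 0 := by
    refine e.inj (i + 1) ?_
    rw [e.comm, hz, map_zero]
    exact congrArg Subtype.val hx
  obtain ⟨w, hw⟩ := hex z hdz
  have hwmem : e.ψ (i - 1) w ∈ G R n (i - 1) := (e.range _).le ⟨w, rfl⟩
  simp only [G, i, if_pos (show -((p + 1 : ℕ) : ℤ) - 1 ≤ 0 by omega)] at hwmem
  rw [show (-(-((p + 1 : ℕ) : ℤ) - 1)).toNat = p + 1 + 1 by omega] at hwmem
  refine ⟨⟨_, hwmem⟩, Subtype.ext ?_⟩
  rw [coe_d, ← hz, ← hw]
  show D (functional f) (e.ψ (i - 1) w) = e.ψ i ((_root_.Koszul.koszul R (List.ofFn f)).d (i - 1) i w)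
  have key : ∀ a b : ℤ, a + 1 = b → ∀ v, e.ψ b ((_root_.Koszul.koszul R (List.ofFn f)).d a b v) =
      D (functional f) (e.ψ a v) := fun a b h v => by
    subst h
    exact e.comm a v
  exact (key _ _ (by omega) w).symm

end Groth.Agent.Disc12.Koszul
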