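import Groth.Agent.Disc12.Koszul.Bridge

/-! Flat base change of the exterior Koszul complex, and the colon ideal of two such sequences. -/

universe u

set_option autoImplicit false
set_option backward.isDefEq.respectTransparency false

open ExteriorAlgebra TensorProduct

namespace Groth.Agent.Disc12.Koszul

variable {P R : Type u} [CommRing P] [CommRing R] [Algebra P R] {n : ℕ}

/-- Extension of scalars on the exterior algebra. -/
noncomputable def σ : ExteriorAlgebra P (Fin n → P) →ₐ[P] ExteriorAlgebra R (Fin n → R) :=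
  ExteriorAlgebra.lift P ⟨((ι R).restrictScalars P) ∘ₗ LinearMap.pi fun i =>
    (Algebra.linearMap P R) ∘ₗ LinearMap.proj i, fun _ => ι_sq_zero _⟩

theorem σ_ι (v : Fin n → P) : σ (R := R) (ι P v) = ι R (fun i => algebraMap P R (v i)) := by
  rw [σ, lift_ι_apply]
  rfl

theorem σ_D (f : Fin n → P) (x : ExteriorAlgebra P (Fin n → P)) :
    D (functional fun i => algebraMap P R (f i)) (σ x) = σ (D (functional f) x) := by
  induction x using CliffordAlgebra.left_induction with
  | algebraMap r =>
    erw [D_algebraMap (functional f) r, map_zero, AlgHom.commutes, IsScalarTower.algebraMap_apply P R, D_algebraMap]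
  | add x y hx hy => simp only [map_add, hx, hy]
  | ι_mul x v hx =>
    show D _ (σ (ι P v * x)) = σ (D _ (ι P v * x))
    rw [map_mul, σ_ι, D_ι_mul, hx, D_ι_mul, map_sub, map_smul, map_mul, σ_ι,
      ← IsScalarTower.algebraMap_smul R (functional f v) (σ x)]
    simp [map_sum]

theorem σ_mem (p : ℕ) {x : ExteriorAlgebra P (Fin n → P)} (hx : x ∈ ⋀[P]^p (Fin n → P)) :
    σ x ∈ (⋀[R]^p (Fin n → R)).restrictScalars P := by
  induction p generalizing x with
  | zero =>
    rw [exteriorPower, pow_zero, Submodule.mem_one] at hx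
    obtain ⟨r, rfl⟩ := hx
    rw [AlgHom.commutes, IsScalarTower.algebraMap_apply P R, exteriorPower, pow_zero]
    exact Submodule.algebraMap_mem _
  | succ p ih =>
    rw [exteriorPower, pow_succ'] at hx
    induction hx using Submodule.mul_induction_on' with
    | mem_mul_mem y hy z hz =>
      obtain ⟨v, rfl⟩ := hy
      rw [map_mul, σ_ι, Submodule.restrictScalars_mem, exteriorPower, pow_succ']
      exact Submodule.mul_mem_mul ⟨_, rfl⟩ (ih hz)
    | add y _ z _ hy hz => rw [map_add]; exact Submodule.add_mem _ hy hz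

/-- Extension of scalars on a term of the Koszul complex. -/
noncomputable def σp (p : ℕ) : K P n p →ₗ[P] K R n p :=
  (σ.toLinearMap.comp (⋀[P]^p (Fin n → P)).subtype).codRestrict
    ((⋀[R]^p (Fin n → R)).restrictScalars P) fun x => σ_mem p x.2

/-- The base change identification. -/
noncomputable def baseChangeEquiv (p : ℕ) : R ⊗[P] K P n p ≃ₗ[R] K R n p :=
  (((Pi.basisFun P (Fin n)).exteriorPower p).baseChange R).equiv
    ((Pi.basisFun R (Fin n)).exteriorPower p) (Equiv.refl _)

theorem baseChangeEquiv_tmul (p : ℕ) (r : R) (x : K P n p) :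
    baseChangeEquiv p (r ⊗ₜ x) = r • σp p x := by
  have h : ∀ y : K P n p, baseChangeEquiv p ((1 : R) ⊗ₜ[P] y) = σp (R := R) p y := by
    refine LinearMap.congr_fun (((Pi.basisFun P (Fin n)).exteriorPower p).ext
      (f₁ := ((baseChangeEquiv p).toLinearMap.restrictScalars P) ∘ₗ TensorProduct.mk P R (K P n p) 1)
      (f₂ := σp p) fun s => ?_)
    show baseChangeEquiv p ((1 : R) ⊗ₜ[P] _) = _
    rw [← Module.Basis.baseChange_apply, baseChangeEquiv, Module.Basis.equiv_apply, Equiv.refl_apply]
    refine Subtype.ext ?_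
    rw [exteriorPower.basis_apply, exteriorPower.basis_apply]
    show ExteriorAlgebra.ιMulti R p _ = σ (ExteriorAlgebra.ιMulti P p _)
    rw [ιMulti_apply, ιMulti_apply, map_list_prod, List.map_ofFn]
    congr 1
    congr 1
    funext i
    show _ = σ (ι P _)
    rw [σ_ι]
    congr 1
    funext j
    simp [Pi.single_apply, apply_ite (algebraMap P R)]
  rw [← h, ← map_smul, TensorProduct.smul_tmul', smul_eq_mul, mul_one]

theorem exact_baseChange [Module.Flat P R] {f : Fin n → P} (p : ℕ)
    (h : Function.Exact (d f (p + 1)) (d f p)) :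
    Function.Exact (d (fun i => algebraMap P R (f i)) (p + 1)) (d (fun i => algebraMap P R (f i)) p) := by
  have key : ∀ q, d (fun i => algebraMap P R (f i)) q ∘ₗ (baseChangeEquiv (q + 1)).toLinearMap =
      (baseChangeEquiv q).toLinearMap ∘ₗ (d f q).baseChange R := fun q => by
    refine AlgebraTensorModule.curry_injective (LinearMap.ext fun r => LinearMap.ext fun x => ?_)
    show d _ q (baseChangeEquiv (q + 1) (r ⊗ₜ x)) = baseChangeEquiv q (r ⊗ₜ d f q x)
    rw [baseChangeEquiv_tmul, baseChangeEquiv_tmul, map_smul]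
    exact congrArg (r • ·) (Subtype.ext (σ_D f x.1))
  exact Function.Exact.of_ladder_linearEquiv_of_exact (key (p + 1)) (key p)
    (Module.Flat.lTensor_exact R h)

variable (f g : Fin n → R) (c : Matrix (Fin n) (Fin n) R)

/-- The comparison lemma. -/
theorem exists_step (hc : functional g ∘ₗ c.vecMulLinear = functional f)
    (hex : ∀ p, Function.Exact (d f (p + 1)) (d f p)) {x : R} (hx : ∀ j, x * g j ∈ Ideal.span (Set.range f)) :
    ∀ p, ∃ (φ : K R n p →ₗ[R] K R n p) (h : K R n p →ₗ[R] K R n (p + 1)),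
      (∀ z, φ (d g p z) ∈ LinearMap.range (d f p)) ∧
      ((φ ∘ₗ kmap c.vecMulLinear p - x • (LinearMap.id : K R n p →ₗ[R] K R n p) - d f p ∘ₗ h) ∘ₗ d f p = 0) ∧
      (∀ z, (φ ∘ₗ kmap c.vecMulLinear p - x • (LinearMap.id : K R n p →ₗ[R] K R n p) - d f p ∘ₗ h) z ∈
        Ideal.span (Set.range f) • (⊤ : Submodule R (K R n p))) := by
  intro p
  induction p with
  | zero =>
    have he : (x • (LinearMap.id : K R n 0 →ₗ[R] K R n 0)) ∘ₗ kmap c.vecMulLinear 0 - x • LinearMap.id - d f 0 ∘ₗ (0 : K R n 0 →ₗ[R] _) = 0 := by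
      refine LinearMap.ext fun z => ?_
      obtain ⟨r, rfl⟩ := e0_surjective z
      simp [kmap_zero]
    refine ⟨x • LinearMap.id, 0, fun z => ?_, ?_, fun z => ?_⟩
    · rw [range_d_zero]
      have hle : Ideal.span (Set.range g) ≤ Submodule.comap (LinearMap.mulLeft R x) (Ideal.span (Set.range f)) := by
        rw [Ideal.span, Submodule.span_le]
        rintro _ ⟨j, rfl⟩
        exact hx j
      obtain ⟨r, hr, hrz⟩ := (range_d_zero g).le ⟨z, rfl⟩
      exact ⟨x * r, hle hr, by rw [← hrz, ← smul_eq_mul, map_smul]; rfl⟩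
    · rw [he, LinearMap.zero_comp]
    · rw [he]; exact zero_mem _
  | succ p ih =>
    obtain ⟨φ, h, hφ, he, -⟩ := ih
    obtain ⟨φ', hφ'⟩ := Module.projective_lifting_property (d f p).rangeRestrict
      ((φ ∘ₗ d g p).codRestrict (LinearMap.range (d f p)) hφ) (LinearMap.surjective_rangeRestrict _)
    have hφ'' : d f p ∘ₗ φ' = φ ∘ₗ d g p := LinearMap.ext fun z => congrArg Subtype.val (LinearMap.congr_fun hφ' z)
    let u := φ' ∘ₗ kmap c.vecMulLinear (p + 1) - x • LinearMap.id - h ∘ₗ d f p
    have hu : d f p ∘ₗ u = 0 := by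
      rw [← he]
      simp only [u, LinearMap.comp_sub, LinearMap.sub_comp]
      rw [← LinearMap.comp_assoc, hφ'', LinearMap.comp_assoc, d_kmap g f _ hc, ← LinearMap.comp_assoc]
      simp [LinearMap.comp_smul, LinearMap.smul_comp, LinearMap.comp_assoc]
    obtain ⟨h', hh'⟩ := Module.projective_lifting_property (d f (p + 1)).rangeRestrict
      (u.codRestrict (LinearMap.range (d f (p + 1))) fun z => (hex p _).1 (LinearMap.congr_fun hu z))
      (LinearMap.surjective_rangeRestrict _)
    have hh'' : d f (p + 1) ∘ₗ h' = u := LinearMap.ext fun z => congrArg Subtype.val (LinearMap.congr_fun hh' z)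
    have hkey : φ' ∘ₗ kmap c.vecMulLinear (p + 1) - x • LinearMap.id - d f (p + 1) ∘ₗ h' = h ∘ₗ d f p := by
      rw [hh'']; exact sub_sub_cancel (G := K R n (p + 1) →ₗ[R] K R n (p + 1)) _ _
    refine ⟨φ', h', fun z => ?_, ?_, fun z => ?_⟩
    · refine (hex p _).1 ?_
      have := LinearMap.congr_fun hφ'' (d g (p + 1) z)
      simp only [LinearMap.comp_apply] at this
      rw [this, show d g p (d g (p + 1) z) = 0 from LinearMap.congr_fun (d_d g p) z, map_zero]
    · rw [hkey, LinearMap.comp_assoc, d_d, LinearMap.comp_zero]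
    · rw [hkey]
      have hle : (Ideal.span (Set.range f) • (⊤ : Submodule R (K R n p))).map h ≤
          Ideal.span (Set.range f) • (⊤ : Submodule R (K R n (p + 1))) := by
        rw [Submodule.map_smul'']
        exact Submodule.smul_mono le_rfl le_top
      exact hle ⟨_, d_mem_smul f p z, rfl⟩

variable {f g c}

theorem det_mul_mem (hc : ∀ i, f i = ∑ j, c i j * g j) (j : Fin n) :
    c.det * g j ∈ Ideal.span (Set.range f) := by
  have hf : f = c.mulVec g := funext hc
  have : c.det * g j = ∑ i, c.adjugate j i * f i := by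
    have h := congrFun (congrArg (fun M => Matrix.mulVec M g) c.adjugate_mul) j
    simp only [← Matrix.mulVec_mulVec, ← hf, Matrix.smul_mulVec, Matrix.one_mulVec] at h
    simpa [Matrix.mulVec, dotProduct] using h.symm
  rw [this]
  exact Ideal.sum_mem _ fun i _ => Ideal.mul_mem_left _ _ (Ideal.subset_span ⟨i, rfl⟩)

/-- The colon ideal is generated by the determinant. -/
theorem mem_colon_iff (hex : ∀ p, Function.Exact (d f (p + 1)) (d f p))
    (hc : ∀ i, f i = ∑ j, c i j * g j) {x : R} :
    (∀ j, x * g j ∈ Ideal.span (Set.range f)) ↔ x ∈ Ideal.span {c.det} ⊔ Ideal.span (Set.range f) := by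
  refine ⟨fun hx => ?_, fun hx j => ?_⟩
  · have hc' : functional g ∘ₗ c.vecMulLinear = functional f := by
      refine LinearMap.ext fun v => ?_
      simp only [LinearMap.comp_apply, Matrix.vecMulLinear_apply, functional_apply, Matrix.vecMul, dotProduct,
        hc, Finset.sum_mul, Finset.mul_sum, mul_assoc]
      exact Finset.sum_comm
    obtain ⟨φ, h, -, -, he⟩ := exists_step f g c hc' hex hx n
    haveI : Subsingleton (K R n (n + 1)) := subsingleton_K (by omega)
    have h0 : d f n (h top) = 0 := by rw [Subsingleton.elim (h top) 0, map_zero]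
    obtain ⟨ε, hε⟩ := exists_coord_top (R := R) (n := n)
    have hmem : ε ((φ ∘ₗ kmap c.vecMulLinear n - x • (LinearMap.id : K R n n →ₗ[R] K R n n) - d f n ∘ₗ h) top) ∈
        Ideal.span (Set.range f) := by
      have hle : (Ideal.span (Set.range f) • (⊤ : Submodule R (K R n n))).map ε ≤ Ideal.span (Set.range f) := by
        rw [Submodule.map_smul'', smul_eq_mul]
        exact Ideal.mul_le_left
      exact hle ⟨_, he top, rfl⟩
    simp only [LinearMap.sub_apply, LinearMap.comp_apply, LinearMap.smul_apply, LinearMap.id_apply, h0,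
      sub_zero, kmap_top, map_smul, map_sub, hε, smul_eq_mul, mul_one] at hmem
    rw [Submodule.mem_sup]
    exact ⟨c.det * ε (φ top), Ideal.mem_span_singleton'.2 ⟨_, mul_comm _ _⟩, _, Ideal.neg_mem_iff _ |>.2 hmem,
      by ring⟩
  · obtain ⟨a, ha, b, hb, rfl⟩ := Submodule.mem_sup.1 hx
    obtain ⟨a, rfl⟩ := Ideal.mem_span_singleton'.1 ha
    rw [add_mul, mul_assoc]
    exact add_mem (Ideal.mul_mem_left _ _ (det_mul_mem hc j)) (Ideal.mul_mem_right _ _ hb)

end Groth.Agent.Disc12.Koszul
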