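import Mathlib

/-! The Koszul complex of a sequence in the exterior algebra of a free module. -/

universe u v

set_option autoImplicit false
set_option backward.isDefEq.respectTransparency false

namespace Groth.Agent.Disc12.Koszul

open ExteriorAlgebra

variable {R : Type u} [CommRing R] {M N : Type u} [AddCommGroup M] [Module R M] [AddCommGroup N] [Module R N]

/-- The derivation of the exterior algebra attached to a functional. -/
noncomputable def D (l : M →ₗ[R] R) : ExteriorAlgebra R M →ₗ[R] ExteriorAlgebra R M :=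
  CliffordAlgebra.contractLeft (Q := (0 : QuadraticForm R M)) l

theorem D_algebraMap (l : M →ₗ[R] R) (r : R) : D l (algebraMap R _ r) = 0 :=
  CliffordAlgebra.contractLeft_algebraMap _ _ _

theorem D_ι_mul (l : M →ₗ[R] R) (v : M) (x : ExteriorAlgebra R M) :
    D l (ι R v * x) = l v • x - ι R v * D l x :=
  CliffordAlgebra.contractLeft_ι_mul _ _ _

theorem D_ι (l : M →ₗ[R] R) (v : M) : D l (ι R v) = algebraMap R _ (l v) := by
  have := D_ι_mul l v 1
  rwa [mul_one, show D l 1 = 0 from map_one (algebraMap R (ExteriorAlgebra R M)) ▸ D_algebraMap l 1,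
    mul_zero, sub_zero, ← Algebra.algebraMap_eq_smul_one] at this

theorem D_D (l : M →ₗ[R] R) (x : ExteriorAlgebra R M) : D l (D l x) = 0 :=
  CliffordAlgebra.contractLeft_contractLeft _ x

theorem D_map (l : N →ₗ[R] R) (c : M →ₗ[R] N) (x : ExteriorAlgebra R M) :
    D l (map c x) = map c (D (l ∘ₗ c) x) := by
  induction x using CliffordAlgebra.left_induction with
  | algebraMap r => erw [AlgHom.commutes, D_algebraMap, D_algebraMap, map_zero]
  | add x y hx hy => simp only [map_add, hx, hy]
  | ι_mul x v hx =>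
    show D l (map c (ι R v * x)) = map c (D (l ∘ₗ c) (ι R v * x))
    simp only [map_mul, map_apply_ι, D_ι_mul, hx, map_sub, map_smul, LinearMap.comp_apply]

theorem D_mem (l : M →ₗ[R] R) (p : ℕ) {x : ExteriorAlgebra R M} (hx : x ∈ ⋀[R]^(p + 1) M) :
    D l x ∈ ⋀[R]^p M := by
  induction p generalizing x with
  | zero =>
    rw [exteriorPower, zero_add, pow_one] at hx
    obtain ⟨v, rfl⟩ := hx
    rw [exteriorPower, pow_zero, D_ι]
    exact Submodule.algebraMap_mem _
  | succ p ih =>
    rw [exteriorPower, pow_succ'] at hx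
    induction hx using Submodule.mul_induction_on' with
    | mem_mul_mem a ha b hb =>
      obtain ⟨v, rfl⟩ := ha
      rw [D_ι_mul]
      refine Submodule.sub_mem _ (Submodule.smul_mem _ _ hb) ?_
      rw [exteriorPower, pow_succ']
      exact Submodule.mul_mem_mul ⟨v, rfl⟩ (ih hb)
    | add a _ b _ ha hb => rw [map_add]; exact Submodule.add_mem _ ha hb

theorem map_mem (c : M →ₗ[R] N) (p : ℕ) {x : ExteriorAlgebra R M} (hx : x ∈ ⋀[R]^p M) :
    map c x ∈ ⋀[R]^p N := by
  have h : (⋀[R]^p M).map (map c).toLinearMap ≤ ⋀[R]^p N := by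
    simp only [exteriorPower, Submodule.map_pow]
    refine pow_le_pow_left' ?_ p
    rintro _ ⟨_, ⟨v, rfl⟩, rfl⟩
    exact ⟨c v, (map_apply_ι c v).symm⟩
  exact h ⟨x, hx, rfl⟩

variable {n : ℕ}

/-- The functional with values `f` on the standard basis. -/
noncomputable def functional (f : Fin n → R) : (Fin n → R) →ₗ[R] R := Fintype.linearCombination R f

@[simp] theorem functional_apply (f : Fin n → R) (v : Fin n → R) : functional f v = ∑ i, v i * f i := rfl

@[simp] theorem functional_single (f : Fin n → R) (i : Fin n) : functional f (Pi.single i 1) = f i := by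
  simp [Pi.single_apply]

/-- The terms of the Koszul complex. -/
abbrev K (R : Type u) [CommRing R] (n p : ℕ) : Type u := ↥(⋀[R]^p (Fin n → R))

/-- The differential of the Koszul complex. -/
noncomputable def d (f : Fin n → R) (p : ℕ) : K R n (p + 1) →ₗ[R] K R n p :=
  (D (functional f)).restrict fun _ h => D_mem _ p h

@[simp] theorem coe_d (f : Fin n → R) (p : ℕ) (x : K R n (p + 1)) :
    (d f p x : ExteriorAlgebra R (Fin n → R)) = D (functional f) x := rfl

theorem d_d (f : Fin n → R) (p : ℕ) : d f p ∘ₗ d f (p + 1) = 0 :=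
  LinearMap.ext fun x => Subtype.ext (D_D _ x.1)

/-- The element of degree zero attached to a scalar. -/
noncomputable def e0 : R →ₗ[R] K R n 0 :=
  (Algebra.linearMap R (ExteriorAlgebra R (Fin n → R))).codRestrict _ fun r => by
    rw [exteriorPower, pow_zero]
    exact Submodule.algebraMap_mem r

theorem e0_surjective : Function.Surjective (e0 (R := R) (n := n)) := by
  rintro ⟨x, hx⟩
  rw [exteriorPower, pow_zero, Submodule.mem_one] at hx
  obtain ⟨r, rfl⟩ := hx
  exact ⟨r, rfl⟩

theorem range_d_zero (f : Fin n → R) :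
    LinearMap.range (d f 0) = Submodule.map e0 (Ideal.span (Set.range f)) := by
  refine le_antisymm ?_ ?_
  · rintro _ ⟨⟨x, hx⟩, rfl⟩
    rw [exteriorPower, zero_add, pow_one] at hx
    obtain ⟨v, rfl⟩ := hx
    refine ⟨functional f v, ?_, Subtype.ext (D_ι _ v).symm⟩
    rw [functional_apply]
    exact Ideal.sum_mem _ fun i _ => Ideal.mul_mem_left _ _ (Ideal.subset_span ⟨i, rfl⟩)
  · rw [Submodule.map_span_le]
    rintro _ ⟨i, rfl⟩
    refine ⟨⟨ι R (Pi.single i 1), ?_⟩, Subtype.ext ?_⟩
    · rw [exteriorPower, zero_add, pow_one]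
      exact ⟨_, rfl⟩
    · rw [coe_d, D_ι, functional_single]
      rfl

theorem d_mem_smul (f : Fin n → R) (p : ℕ) (x : K R n (p + 1)) :
    d f p x ∈ Ideal.span (Set.range f) • (⊤ : Submodule R (K R n p)) := by
  have h : ∀ (p : ℕ) (y : ExteriorAlgebra R (Fin n → R)), y ∈ ⋀[R]^(p + 1) (Fin n → R) →
      D (functional f) y ∈ Ideal.span (Set.range f) • (⋀[R]^p (Fin n → R)) := by
    intro p
    have hl : ∀ v, functional f v ∈ Ideal.span (Set.range f) := fun v => by
      rw [functional_apply]
      exact Ideal.sum_mem _ fun i _ => Ideal.mul_mem_left _ _ (Ideal.subset_span ⟨i, rfl⟩)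
    induction p with
    | zero =>
      intro y hy
      rw [exteriorPower, zero_add, pow_one] at hy
      obtain ⟨v, rfl⟩ := hy
      rw [D_ι, Algebra.algebraMap_eq_smul_one]
      refine Submodule.smul_mem_smul (hl v) ?_
      rw [exteriorPower, pow_zero]
      exact Submodule.mem_one.2 ⟨1, map_one _⟩
    | succ p ih =>
      intro y hy
      rw [exteriorPower, pow_succ'] at hy
      induction hy using Submodule.mul_induction_on' with
      | mem_mul_mem a ha b hb =>
        obtain ⟨v, rfl⟩ := ha
        rw [D_ι_mul]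
        refine Submodule.sub_mem _ (Submodule.smul_mem_smul (hl v) hb) ?_
        have hle : (Ideal.span (Set.range f) • ⋀[R]^p (Fin n → R)).map (LinearMap.mulLeft R (ι R v)) ≤
            Ideal.span (Set.range f) • ⋀[R]^(p + 1) (Fin n → R) := by
          rw [Submodule.map_smul'']
          refine Submodule.smul_mono le_rfl ?_
          rintro _ ⟨z, hz, rfl⟩
          rw [exteriorPower, pow_succ']
          exact Submodule.mul_mem_mul ⟨v, rfl⟩ hz
        exact hle ⟨_, ih b hb, rfl⟩
      | add a _ b _ ha hb => rw [map_add]; exact Submodule.add_mem _ ha hb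
  have hx := h p x.1 x.2
  rw [← Submodule.map_subtype_top (⋀[R]^p (Fin n → R)), ← Submodule.map_smul''] at hx
  obtain ⟨y, hy, hyx⟩ := hx
  rwa [show d f p x = y from Subtype.ext hyx.symm]

/-- The map of Koszul complexes attached to a linear map. -/
noncomputable def kmap {m : ℕ} (c : (Fin n → R) →ₗ[R] (Fin m → R)) (p : ℕ) : K R n p →ₗ[R] K R m p :=
  (map c).toLinearMap.restrict fun _ h => map_mem c p h

theorem d_kmap {m : ℕ} (g : Fin m → R) (f : Fin n → R) (c : (Fin n → R) →ₗ[R] (Fin m → R))
    (hc : functional g ∘ₗ c = functional f) (p : ℕ) :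
    d g p ∘ₗ kmap c (p + 1) = kmap c p ∘ₗ d f p :=
  LinearMap.ext fun x => Subtype.ext (by
    show D (functional g) (map c x.1) = map c (D (functional f) x.1)
    rw [D_map, hc])

theorem kmap_zero {m : ℕ} (c : (Fin n → R) →ₗ[R] (Fin m → R)) (r : R) : kmap c 0 (e0 r) = e0 r :=
  Subtype.ext (AlgHom.commutes _ r)

/-- The top element. -/
noncomputable def top : K R n n := exteriorPower.ιMulti R n (Pi.basisFun R (Fin n))

theorem ιMulti_eq_det_smul (v : Fin n → Fin n → R) :
    exteriorPower.ιMulti R n v = (Matrix.of v).det • top := by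
  let l : (Fin n → R) [⋀^Fin n]→ₗ[R] K R n n :=
    (LinearMap.toSpanSingleton R _ (top (R := R) (n := n))).compAlternatingMap
      (Pi.basisFun R (Fin n)).det
  have hl : exteriorPower.ιMulti R n = l := by
    refine (Pi.basisFun R (Fin n)).ext_alternating fun σ hσ => ?_
    obtain ⟨e, rfl⟩ : ∃ e : Equiv.Perm (Fin n), σ = e :=
      ⟨Equiv.ofBijective σ (Finite.injective_iff_bijective.1 hσ), rfl⟩
    rw [show (fun i => Pi.basisFun R (Fin n) (e i)) = Pi.basisFun R (Fin n) ∘ e from rfl,
      AlternatingMap.map_perm, AlternatingMap.map_perm]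
    simp only [l, LinearMap.compAlternatingMap_apply, LinearMap.toSpanSingleton_apply, Module.Basis.det_self, one_smul, top]
  rw [hl]
  simp only [l, LinearMap.compAlternatingMap_apply, LinearMap.toSpanSingleton_apply, Pi.basisFun_det]
  rfl

theorem kmap_top (c : Matrix (Fin n) (Fin n) R) : kmap c.vecMulLinear n top = c.det • top := by
  rw [← show exteriorPower.ιMulti R n (fun i => c i) = c.det • top from ιMulti_eq_det_smul _]
  refine Subtype.ext ?_
  show map c.vecMulLinear (ExteriorAlgebra.ιMulti R n _) = ExteriorAlgebra.ιMulti R n _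
  rw [map_apply_ιMulti]
  congr 1
  funext i
  simp
  rfl

theorem exists_coord_top : ∃ ε : K R n n →ₗ[R] R, ε top = 1 :=
  ⟨exteriorPower.alternatingMapLinearEquiv (Pi.basisFun R (Fin n)).det, by
    rw [top, exteriorPower.alternatingMapLinearEquiv_apply_ιMulti, Module.Basis.det_self]⟩

theorem subsingleton_K {p : ℕ} (h : n < p) : Subsingleton (K R n p) := by
  refine ⟨fun x y => ((Pi.basisFun R (Fin n)).exteriorPower p).repr.injective (Finsupp.ext fun s => ?_)⟩
  have h1 := Finset.card_le_univ s.1
  have h2 : s.1.card = p := s.2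
  rw [Fintype.card_fin] at h1
  omega

end Groth.Agent.Disc12.Koszul
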